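/-
Independent equations in regular local rings.
-/
import Mathlib
import Groth.Agent.EGA41Quot.Criterion

set_option autoImplicit false
universe u

namespace Groth.Agent.EGA41Nagata

open IsLocalRing

/-- Independent equations cut out a regular ring. -/
theorem isRegularLocalRing_quotient_of_indep {R : Type u} [CommRing R] [IsRegularLocalRing R] {r : ℕ}
    (x : Fin r → R) (hx : ∀ i, x i ∈ maximalIdeal R) [IsLocalRing (R ⧸ Ideal.span (Set.range x))]
    (hli : LinearIndependent (ResidueField R) (fun i => (maximalIdeal R).toCotangent ⟨x i, hx i⟩)) :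
    IsRegularLocalRing (R ⧸ Ideal.span (Set.range x)) := by
  classical
  let I := Ideal.span (Set.range x)
  obtain ⟨N, hN⟩ := SerreReg.exists_dim_nat R
  obtain ⟨e, he⟩ := SerreReg.exists_dim_nat (R ⧸ I)
  have hrk : Module.finrank (ResidueField R) (CotangentSpace R) = N := by
    have h := (IsRegularLocalRing.iff_finrank_cotangentSpace R).mp inferInstance
    rw [hN] at h
    exact_mod_cast h
  have hrN : r ≤ N := by
    have := hli.fintype_card_le_finrank
    rwa [hrk, Fintype.card_fin] at this
  have hle := EGA41Quot.spanFinrank_quotient_le (d := N - r) x hx (by omega) hli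
  refine IsRegularLocalRing.of_spanFinrank_maximalIdeal_le _ ?_
  rw [show ringKrullDim (R ⧸ Ideal.span (Set.range x)) = (e : WithBot ℕ∞) from he, Nat.cast_le]
  have hkrull : ringKrullDim R ≤ ringKrullDim (R ⧸ Ideal.span ((Finset.univ.image x : Finset R) : Set R)) +
      (Finset.univ.image x).card := ringKrullDim_le_ringKrullDim_quotient_add_card _ fun y hy => by
    rw [Finset.mem_coe, Finset.mem_image] at hy
    obtain ⟨i, -, rfl⟩ := hy
    rw [IsLocalRing.ringJacobson_eq_maximalIdeal]
    exact hx i
  have hcard : (Finset.univ.image x).card ≤ r := Finset.card_image_le.trans (by simp)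
  rw [Finset.coe_image, Finset.coe_univ, Set.image_univ, hN,
    show ringKrullDim (R ⧸ Ideal.span (Set.range x)) = (e : WithBot ℕ∞) from he] at hkrull
  have : N ≤ e + (Finset.univ.image x).card := by exact_mod_cast hkrull
  omega

/-- A regular quotient is cut out by independent elements chosen among given generators. -/
theorem exists_indep_generators {R : Type u} [CommRing R] [IsRegularLocalRing R] (G : Set R)
    (hG : G ⊆ maximalIdeal R) [IsRegularRing (R ⧸ Ideal.span G)] :
    ∃ (m : ℕ) (f : Fin m → R) (hf : ∀ i, f i ∈ maximalIdeal R), (∀ i, f i ∈ G) ∧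
      Ideal.span G = Ideal.span (Set.range f) ∧
      LinearIndependent (ResidueField R) (fun i => (maximalIdeal R).toCotangent ⟨f i, hf i⟩) := by
  classical
  let v : G → CotangentSpace R := fun g => (maximalIdeal R).toCotangent ⟨g.1, hG g.2⟩
  obtain ⟨b, hbsub, hbspan, hbli⟩ := exists_linearIndependent (ResidueField R) (Set.range v)
  haveI : Finite b := hbli.finite
  let m := Nat.card b
  let eb : b ≃ Fin m := Finite.equivFin b
  choose g hg using fun i : Fin m => hbsub (eb.symm i).2
  let f : Fin m → R := fun i => (g i).1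
  refine ⟨m, f, fun i => hG (g i).2, fun i => (g i).2, le_antisymm ?_ ?_, ?_⟩
  · have hle : Ideal.span G ≤ maximalIdeal R := Ideal.span_le.mpr hG
    refine Submodule.le_of_le_smul_of_le_jacobson_bot (I := maximalIdeal R) (IsNoetherian.noetherian _)
      (maximalIdeal_le_jacobson _) fun y hy => ?_
    have hyT : (maximalIdeal R).toCotangent ⟨y, hle hy⟩ ∈
        Submodule.span (ResidueField R) (Set.range v) := by
      induction hy using Submodule.span_induction with
      | mem z hz => exact Submodule.subset_span ⟨⟨z, hz⟩, rfl⟩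
      | zero =>
        rw [show (⟨0, hle (zero_mem _)⟩ : maximalIdeal R) = 0 from rfl, map_zero]
        exact zero_mem _
      | add z w hz hw ihz ihw =>
        rw [show (⟨z + w, hle (add_mem hz hw)⟩ : maximalIdeal R) = ⟨z, hle hz⟩ + ⟨w, hle hw⟩ from rfl, map_add]
        exact add_mem ihz ihw
      | smul a z hz ih =>
        rw [show (⟨a • z, hle (Submodule.smul_mem _ a hz)⟩ : maximalIdeal R) = a • ⟨z, hle hz⟩ from rfl, map_smul]
        exact Submodule.smul_mem _ (residue R a) ih
    rw [← hbspan, ← Subtype.range_coe (s := b), ← eb.symm.surjective.range_comp] at hyT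
    obtain ⟨c, hc⟩ := (Submodule.mem_span_range_iff_exists_fun _).mp hyT
    choose a ha using fun i => residue_surjective (c i)
    let y' := ∑ i, a i * f i
    have hy' : y' ∈ Ideal.span (Set.range f) :=
      sum_mem fun i _ => Ideal.mul_mem_left _ _ (Ideal.subset_span (Set.mem_range_self i))
    refine Submodule.mem_sup.mpr ⟨y', hy', y - y', ?_, add_sub_cancel _ _⟩
    refine RegLoc.inf_sq_le_mul_of_regular_quotient _ (ne_top_of_le_ne_top (maximalIdeal.isMaximal R).ne_top hle)
      ⟨sub_mem hy (Submodule.sum_mem _ fun i _ => Ideal.mul_mem_left _ _ (Ideal.subset_span (g i).2)), ?_⟩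
    have hy'm : y' ∈ maximalIdeal R := Ideal.span_le.mpr (by rintro _ ⟨i, rfl⟩; exact hG (g i).2) hy'
    have h0 : (maximalIdeal R).toCotangent (⟨y, hle hy⟩ - ⟨y', hy'm⟩) = 0 := by
      rw [map_sub, sub_eq_zero, ← hc,
        show (⟨y', hy'm⟩ : maximalIdeal R) = ∑ i, a i • ⟨f i, hG (g i).2⟩ from Subtype.ext (by simp [y']), map_sum]
      refine Finset.sum_congr rfl fun i _ => ?_
      rw [map_smul, ← ha i]
      exact congrArg (residue R (a i) • ·) (hg i).symm
    exact (Ideal.toCotangent_eq_zero _ _).mp h0
  · exact Ideal.span_mono (Set.range_subset_iff.mpr fun i => (g i).2)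
  · convert hbli.comp eb.symm eb.symm.injective using 1
    funext i
    exact hg i

end Groth.Agent.EGA41Nagata
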