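/-
Absolute differentials of the ground field in separable extensions of power series fields.
-/
import Mathlib
import Groth.Agent.EGA418Dim.Imperfection
import Groth.Agent.EGA41Adic.Field

set_option autoImplicit false
universe u

namespace Groth.Agent.EGA41Nagata

open IsLocalRing TensorProduct

attribute [local instance 2000] Ring.toIntAlgebra

/-- Derivations of the ground field extend to functionals on the differentials of the extension. -/
theorem exists_kaehler_functional (k : Type u) [Field k] (s : ℕ) (L' L : Type u) [Field L'] [Field L]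
    [Algebra (MvPowerSeries (Fin s) k) L'] [IsFractionRing (MvPowerSeries (Fin s) k) L'] [Algebra L' L]
    [Algebra.IsSeparable L' L] [Algebra (MvPowerSeries (Fin s) k) L]
    [IsScalarTower (MvPowerSeries (Fin s) k) L' L] (d : Derivation ℤ k k) :
    ∃ ψ : Ω[L⁄ℤ] →ₗ[L] L, ∀ c : k, ψ (KaehlerDifferential.D ℤ L (algebraMap (MvPowerSeries (Fin s) k) L (MvPowerSeries.C c))) =
      algebraMap (MvPowerSeries (Fin s) k) L (MvPowerSeries.C (d c)) := by
  let P := MvPowerSeries (Fin s) k
  obtain ⟨D, hD⟩ := EGA418Dim.exists_coeff_derivation s d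
  haveI : Algebra.FormallyEtale P L' := Algebra.FormallyEtale.of_isLocalization (nonZeroDivisors P)
  haveI : Algebra.FormallyEtale L' L := Algebra.FormallyEtale.of_isSeparable L' L
  haveI : Algebra.FormallyEtale P L := Algebra.FormallyEtale.comp P L' L
  haveI : IsScalarTower ℤ P L := IsScalarTower.of_algebraMap_eq' (Subsingleton.elim _ _)
  let l : Ω[P⁄ℤ] →ₗ[P] L := (Algebra.linearMap P L) ∘ₗ D.liftKaehlerDifferential
  refine ⟨(l.liftBaseChange L) ∘ₗ (KaehlerDifferential.tensorKaehlerEquivOfFormallyEtale ℤ P L).symm.toLinearMap,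
    fun c => ?_⟩
  have h1 : KaehlerDifferential.D ℤ L (algebraMap P L (MvPowerSeries.C c)) =
      KaehlerDifferential.tensorKaehlerEquivOfFormallyEtale ℤ P L
        ((1 : L) ⊗ₜ[P] KaehlerDifferential.D ℤ P (MvPowerSeries.C c)) := by
    show _ = KaehlerDifferential.mapBaseChange ℤ P L ((1 : L) ⊗ₜ[P] KaehlerDifferential.D ℤ P (MvPowerSeries.C c))
    simp
  show (l.liftBaseChange L) ((KaehlerDifferential.tensorKaehlerEquivOfFormallyEtale ℤ P L).symm
    (KaehlerDifferential.D ℤ L (algebraMap P L (MvPowerSeries.C c)))) = _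
  rw [h1, LinearEquiv.symm_apply_apply, LinearMap.liftBaseChange_tmul, one_smul]
  show algebraMap P L (D.liftKaehlerDifferential (KaehlerDifferential.D ℤ P (MvPowerSeries.C c))) = _
  rw [Derivation.liftKaehlerDifferential_comp_D, hD]

/-- The differentials of the ground field are independent over a ring mapping to such an extension. -/
theorem indep_fam (k : Type u) [Field k] (s : ℕ) (L' L : Type u) [Field L'] [Field L]
    [Algebra (MvPowerSeries (Fin s) k) L'] [IsFractionRing (MvPowerSeries (Fin s) k) L'] [Algebra L' L]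
    [Algebra.IsSeparable L' L] [Algebra (MvPowerSeries (Fin s) k) L]
    [IsScalarTower (MvPowerSeries (Fin s) k) L' L] (R : Type u) [CommRing R] [IsLocalRing R] [Algebra k R]
    (res : ResidueField R →+* L)
    (hres : ∀ c, res (residue R (algebraMap k R c)) = algebraMap (MvPowerSeries (Fin s) k) L (MvPowerSeries.C c)) :
    LinearIndependent (ResidueField R) (EGA41Adic.fam k R (ResidueField R)) := by
  classical
  let P := MvPowerSeries (Fin s) k
  let κ := ResidueField R
  letI : Algebra κ L := res.toAlgebra
  letI : Algebra R L := (res.comp (residue R)).toAlgebra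
  haveI : IsScalarTower R κ L := IsScalarTower.of_algebraMap_eq fun _ => rfl
  let B := Module.Free.chooseBasis k (Ω[k⁄ℤ])
  rw [linearIndependent_iff']
  intro t g hg i hi
  obtain ⟨ψ, hψ⟩ := exists_kaehler_functional k s L' L ((B.coord i).compDer (KaehlerDifferential.D ℤ k))
  haveI : IsScalarTower ℤ R L := IsScalarTower.of_algebraMap_eq' (Subsingleton.elim _ _)
  let l : Ω[R⁄ℤ] →ₗ[R] L := (ψ.restrictScalars R) ∘ₗ KaehlerDifferential.map ℤ ℤ R L
  let Φ : κ ⊗[R] Ω[R⁄ℤ] →ₗ[κ] L := l.liftBaseChange κ
  have hl : ∀ ω : Ω[k⁄ℤ], l (KaehlerDifferential.map ℤ ℤ k R ω) =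
      algebraMap P L (MvPowerSeries.C (B.coord i ω)) := fun ω => by
    have hω : ω ∈ Submodule.span k (Set.range (KaehlerDifferential.D ℤ k)) :=
      (KaehlerDifferential.span_range_derivation ℤ k).ge Submodule.mem_top
    induction hω using Submodule.span_induction with
    | mem x hx =>
      obtain ⟨c, rfl⟩ := hx
      show ψ (KaehlerDifferential.map ℤ ℤ R L (KaehlerDifferential.map ℤ ℤ k R (KaehlerDifferential.D ℤ k c))) = _
      rw [KaehlerDifferential.map_D, KaehlerDifferential.map_D,
        show algebraMap R L (algebraMap k R c) = algebraMap P L (MvPowerSeries.C c) from hres c, hψ]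
      rfl
    | zero => simp
    | add x y _ _ hx hy => rw [map_add, map_add, hx, hy, map_add, map_add, map_add]
    | smul a x _ hx =>
      rw [map_smul, ← algebraMap_smul R a, map_smul, hx, Algebra.smul_def, map_smul, smul_eq_mul, map_mul, map_mul]
      congr 1
      exact hres a
  have h := congrArg Φ hg
  rw [map_sum, map_zero, Finset.sum_eq_single i] at h
  · rw [map_smul, EGA41Adic.fam, LinearMap.liftBaseChange_tmul, one_smul, hl] at h
    simp only [Module.Basis.coord_apply, Module.Basis.repr_self, Finsupp.single_eq_same, map_one, B] at h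
    exact res.injective (by rw [map_zero]; simpa [Algebra.smul_def] using h)
  · intro j _ hj
    rw [map_smul, EGA41Adic.fam, LinearMap.liftBaseChange_tmul, one_smul, hl]
    simp [B, hj]
  · exact fun h => absurd hi h

end Groth.Agent.EGA41Nagata
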