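/-
Gradients at a prime with separable power series normalisation.
-/
import Mathlib
import Groth.Agent.EGA418Base.Perfect
import Groth.Agent.SegreDim.Noether

set_option autoImplicit false
universe u

namespace Groth.Agent.EGA41Nagata

open IsLocalRing TensorProduct

attribute [local instance 2000] Ring.toIntAlgebra

variable {k : Type u} [Field k] {r : ℕ} (p : Ideal (MvPowerSeries (Fin r) k)) [p.IsPrime] (s : ℕ)
  [Algebra (MvPowerSeries (Fin s) k) (MvPowerSeries (Fin r) k ⧸ p)]
  [IsScalarTower k (MvPowerSeries (Fin s) k) (MvPowerSeries (Fin r) k ⧸ p)]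
  [Module.Finite (MvPowerSeries (Fin s) k) (MvPowerSeries (Fin r) k ⧸ p)]
  (L' L : Type u) [Field L'] [Field L]
  [Algebra (MvPowerSeries (Fin s) k) L'] [IsFractionRing (MvPowerSeries (Fin s) k) L']
  [Algebra (MvPowerSeries (Fin r) k ⧸ p) L] [IsFractionRing (MvPowerSeries (Fin r) k ⧸ p) L]
  [Algebra L' L] [Algebra (MvPowerSeries (Fin s) k) L]
  [IsScalarTower (MvPowerSeries (Fin s) k) (MvPowerSeries (Fin r) k ⧸ p) L]
  [IsScalarTower (MvPowerSeries (Fin s) k) L' L]

/-- The gradient modulo the prime. -/
noncomputable def grad (a : MvPowerSeries (Fin r) k) : Fin r → L := fun l =>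
  algebraMap (MvPowerSeries (Fin r) k ⧸ p) L (Ideal.Quotient.mk p (MvPowerSeries.pderiv k l a))

omit [p.IsPrime] in
theorem grad_add (a b : MvPowerSeries (Fin r) k) : grad p L (a + b) = grad p L a + grad p L b := by
  funext l; simp [grad]

omit [p.IsPrime] in
theorem grad_mul (a b : MvPowerSeries (Fin r) k) : grad p L (a * b) =
    algebraMap (MvPowerSeries (Fin r) k ⧸ p) L (Ideal.Quotient.mk p a) • grad p L b +
      algebraMap (MvPowerSeries (Fin r) k ⧸ p) L (Ideal.Quotient.mk p b) • grad p L a := by
  funext l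
  simp only [grad, Derivation.leibniz, smul_eq_mul, map_add, map_mul, Pi.add_apply, Pi.smul_apply]

omit [p.IsPrime] in
theorem grad_mul_mem {a b : MvPowerSeries (Fin r) k} (ha : a ∈ p) (hb : b ∈ p) : grad p L (a * b) = 0 := by
  rw [grad_mul, Ideal.Quotient.eq_zero_iff_mem.mpr ha, Ideal.Quotient.eq_zero_iff_mem.mpr hb, map_zero, zero_smul,
    zero_smul, add_zero]

include s in
/-- The dimension at the prime. -/
theorem dim_localization_add_le
    (hinj : Function.Injective (algebraMap (MvPowerSeries (Fin s) k) (MvPowerSeries (Fin r) k ⧸ p))) :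
    ringKrullDim (Localization.AtPrime p) + s ≤ r := by
  haveI : Algebra.IsIntegral (MvPowerSeries (Fin s) k) (MvPowerSeries (Fin r) k ⧸ p) :=
    Algebra.IsIntegral.of_finite _ _
  have h := EGA418Base.dim_localization_add_dim_quotient_le p
  rw [EGA41SymGr.Model.ringKrullDim_eq (n := r) k,
    ← SegreDim.ringKrullDim_eq_of_injective_integral hinj, EGA41SymGr.Model.ringKrullDim_eq (n := s) k] at h
  exact h

include L' in
/-- The gradients of the prime span at least the complement of the dimension of the quotient. -/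
theorem finrank_span_grad_ge [Algebra.IsSeparable L' L] :
    r ≤ Module.finrank L (Submodule.span L (grad p L '' (p : Set (MvPowerSeries (Fin r) k)))) + s := by
  classical
  let A := MvPowerSeries (Fin r) k
  let Q := MvPowerSeries (Fin s) k
  let C := A ⧸ p
  let gC : A → Fin r → C := fun a l => Ideal.Quotient.mk p (MvPowerSeries.pderiv k l a)
  let N0 : Submodule C (Fin r → C) := Submodule.span C (gC '' (p : Set A))
  have hgCadd : ∀ a b, gC (a + b) = gC a + gC b := fun a b => by funext l; simp [gC]
  have hgCmul : ∀ a b, gC (a * b) = Ideal.Quotient.mk p a • gC b + Ideal.Quotient.mk p b • gC a := fun a b => by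
    funext l; simp only [gC, Derivation.leibniz, smul_eq_mul, map_add, map_mul, Pi.add_apply, Pi.smul_apply]
  let M0 := (Fin r → C) ⧸ N0
  let d0 : C → M0 := fun x => Quotient.liftOn' x (fun a => N0.mkQ (gC a)) fun a b hab => by
    have hm : a - b ∈ p := Submodule.quotientRel_def p |>.mp hab
    rw [← sub_add_cancel a b, hgCadd, map_add, show N0.mkQ (gC (a - b)) = 0 from
      (Submodule.Quotient.mk_eq_zero N0).mpr (Submodule.subset_span ⟨_, hm, rfl⟩), zero_add]
  have hd0 : ∀ a, d0 (Ideal.Quotient.mk p a) = N0.mkQ (gC a) := fun a => rfl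
  let D0h : C →+ M0 := AddMonoidHom.mk' d0 fun x y => by
    obtain ⟨a, rfl⟩ := Ideal.Quotient.mk_surjective x
    obtain ⟨b, rfl⟩ := Ideal.Quotient.mk_surjective y
    rw [← map_add, hd0, hd0, hd0, hgCadd, map_add]
  let D : Derivation ℤ C M0 := Derivation.mk' D0h.toIntLinearMap fun x y => by
    obtain ⟨a, rfl⟩ := Ideal.Quotient.mk_surjective x
    obtain ⟨b, rfl⟩ := Ideal.Quotient.mk_surjective y
    show d0 (Ideal.Quotient.mk p a * Ideal.Quotient.mk p b) =
      Ideal.Quotient.mk p a • d0 (Ideal.Quotient.mk p b) + Ideal.Quotient.mk p b • d0 (Ideal.Quotient.mk p a)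
    rw [← map_mul, hd0, hd0, hd0, hgCmul, map_add, map_smul, map_smul]
  let w : Q →ₐ[k] C := IsScalarTower.toAlgHom k Q C
  let J : Ideal C := (maximalIdeal Q).map (algebraMap Q C)
  haveI := Cohen.isRegularLocalRing_mvPowerSeries k s
  haveI : IsAdicComplete (maximalIdeal Q) Q := ArtObs.isAdicComplete_ps k s
  haveI : IsNoetherianRing C := IsNoetherianRing.of_finite Q C
  haveI : IsAdicComplete (maximalIdeal Q) C := AdicLim.isAdicComplete_of_finite _ C
  haveI : IsAdicComplete J C := (IsAdicComplete.map_algebraMap_iff _ _).2 inferInstance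
  haveI : Module.Finite C M0 := Module.Finite.of_surjective N0.mkQ N0.mkQ_surjective
  have hDk : ∀ c : k, D (algebraMap k C c) = 0 := fun c => by
    show d0 (algebraMap k C c) = 0
    rw [IsScalarTower.algebraMap_apply k A C,
      show algebraMap A C (algebraMap k A c) = Ideal.Quotient.mk p (algebraMap k A c) from rfl, hd0,
      show gC (algebraMap k A c) = 0 by
        funext l; rw [show algebraMap k A c = MvPowerSeries.C c from rfl]; simp [gC], map_zero]
  have hw : ∀ f : Q, D (algebraMap Q C f) ∈ Submodule.span C (Set.range fun i => D (w (MvPowerSeries.X i))) :=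
    fun f => EGA418Base.derivation_powerSeries_mem J w (fun i => Ideal.mem_map_of_mem _ (by
      rw [← ArtPow.span_X_eq_maximalIdeal]; exact Ideal.subset_span ⟨i, rfl⟩)) D hDk f
  -- pass to the fraction field
  let W := Submodule.span L (grad p L '' (p : Set A))
  let V := (Fin r → L) ⧸ W
  let ι0 : (Fin r → C) →ₗ[C] V := (W.mkQ.restrictScalars C) ∘ₗ LinearMap.pi fun l =>
    (Algebra.linearMap C L) ∘ₗ LinearMap.proj l
  let Λ : M0 →ₗ[C] V := N0.liftQ ι0 (Submodule.span_le.mpr (by
    rintro _ ⟨a, ha, rfl⟩
    exact (Submodule.Quotient.mk_eq_zero W).mpr (Submodule.subset_span ⟨a, ha, rfl⟩)))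
  have hΛ : ∀ a, Λ (D (Ideal.Quotient.mk p a)) = W.mkQ (grad p L a) := fun a => rfl
  let W2 := Submodule.span L (Set.range fun i => Λ (D (w (MvPowerSeries.X i))))
  let V2 := V ⧸ W2
  let dd : Derivation ℤ C V2 := ((W2.mkQ.restrictScalars C) ∘ₗ Λ).compDer D
  have hdd : ∀ f : Q, dd (algebraMap Q C f) = 0 := fun f => by
    show W2.mkQ (Λ (D (algebraMap Q C f))) = 0
    have h1 := hw f
    generalize D (algebraMap Q C f) = v at h1 ⊢
    induction h1 using Submodule.span_induction with
    | mem v hv => obtain ⟨i, rfl⟩ := hv; exact (Submodule.Quotient.mk_eq_zero W2).mpr (Submodule.subset_span ⟨i, rfl⟩)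
    | zero => rw [map_zero, map_zero]
    | add a b _ _ ha hb => rw [map_add, map_add, ha, hb, add_zero]
    | smul a b _ hb => rw [map_smul, ← algebraMap_smul L a, map_smul, hb, smul_zero]
  haveI : IsScalarTower Q C V2 := IsScalarTower.of_algebraMap_smul fun (a : Q) (x : V2) => by
    rw [← algebraMap_smul L (algebraMap Q C a) x, ← IsScalarTower.algebraMap_apply Q C L a]
    exact algebraMap_smul L a x
  let dQ : Derivation Q C V2 := Derivation.mk'
    { toFun := dd
      map_add' := map_add dd
      map_smul' := fun f x => by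
        show dd (f • x) = f • dd x
        rw [← algebraMap_smul C f (dd x)]
        rw [Algebra.smul_def, Derivation.leibniz, hdd, smul_zero, add_zero] }
    fun a b => dd.leibniz a b
  haveI : Algebra.FormallyUnramified Q L' := Algebra.FormallyUnramified.of_isLocalization (nonZeroDivisors Q)
  haveI : Algebra.FormallyUnramified L' L := Algebra.FormallyUnramified.of_isSeparable L' L
  haveI : Algebra.FormallyUnramified Q L := Algebra.FormallyUnramified.comp Q L' L
  haveI : Algebra.FormallyEtale C L := Algebra.FormallyEtale.of_isLocalization (nonZeroDivisors C)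
  haveI : Subsingleton (L ⊗[C] Ω[C⁄Q]) :=
    (KaehlerDifferential.tensorKaehlerEquivOfFormallyEtale Q C L).injective.subsingleton
  have hdd0 : ∀ x, dd x = 0 := fun x => by
    have h := congrArg (dQ.liftKaehlerDifferential.liftBaseChange L)
      (Subsingleton.elim ((1 : L) ⊗ₜ[C] KaehlerDifferential.D Q C x) 0)
    rw [LinearMap.liftBaseChange_tmul, one_smul, Derivation.liftKaehlerDifferential_comp_D, map_zero] at h
    exact h
  have htop : W2 = ⊤ := by
    refine eq_top_iff.mpr fun z _ => ?_
    obtain ⟨z, rfl⟩ := W.mkQ_surjective z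
    rw [pi_eq_sum_univ z, map_sum]
    refine sum_mem fun l _ => ?_
    rw [map_smul]
    refine Submodule.smul_mem _ _ ?_
    have h := (Submodule.Quotient.mk_eq_zero W2).mp (hdd0 (Ideal.Quotient.mk p (MvPowerSeries.X l)))
    change Λ (D (Ideal.Quotient.mk p (MvPowerSeries.X l))) ∈ W2 at h
    rw [hΛ] at h
    convert h using 2
    funext j
    by_cases hj : l = j
    · subst hj; simp [grad]
    · simp [grad, hj, MvPowerSeries.pderiv_X_of_ne (Ne.symm hj)]
  have h1 := W.finrank_quotient_add_finrank
  rw [Module.finrank_fin_fun] at h1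
  have h2 : Module.finrank L V ≤ s := by
    rw [← finrank_top L V, ← htop]
    exact (finrank_range_le_card _).trans (by simp)
  have h3 : Module.finrank L ((Fin r → L) ⧸ W) ≤ s := h2
  show r ≤ Module.finrank L W + s
  omega

include L' in
/-- Independent equations have independent gradients. -/
theorem linearIndependent_grad [Algebra.IsSeparable L' L]
    (hinj : Function.Injective (algebraMap (MvPowerSeries (Fin s) k) (MvPowerSeries (Fin r) k ⧸ p)))
    [IsRegularLocalRing (Localization.AtPrime p)] {m : ℕ} (f : Fin m → MvPowerSeries (Fin r) k) (hf : ∀ i, f i ∈ p)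
    (hfm : ∀ i, algebraMap _ (Localization.AtPrime p) (f i) ∈ maximalIdeal (Localization.AtPrime p))
    (hli : LinearIndependent (ResidueField (Localization.AtPrime p))
      (fun i => (maximalIdeal (Localization.AtPrime p)).toCotangent
        ⟨algebraMap _ (Localization.AtPrime p) (f i), hfm i⟩)) :
    LinearIndependent L (fun i => grad p L (f i)) := by
  classical
  let A := MvPowerSeries (Fin r) k
  let R := Localization.AtPrime p
  let κ := ResidueField R
  have hmem : ∀ a ∈ p, algebraMap A R a ∈ maximalIdeal R := fun a ha =>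
    (IsLocalization.AtPrime.to_map_mem_maximal_iff R p a).mpr ha
  let cl : p → CotangentSpace R := fun a => (maximalIdeal R).toCotangent ⟨algebraMap A R a.1, hmem a.1 a.2⟩
  have hspan : Submodule.span κ (Set.range cl) = ⊤ := by
    refine eq_top_iff.mpr fun z _ => ?_
    obtain ⟨⟨y, hy⟩, rfl⟩ := (maximalIdeal R).toCotangent_surjective z
    obtain ⟨a, t, rfl⟩ := IsLocalization.exists_mk'_eq p.primeCompl y
    have hu := IsLocalization.map_units R t
    have hap : a ∈ p := (IsLocalization.AtPrime.to_map_mem_maximal_iff R p a).mp (by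
      rw [← IsLocalization.mk'_spec R a t]; exact Ideal.mul_mem_right _ _ hy)
    rw [show (⟨IsLocalization.mk' R a t, hy⟩ : maximalIdeal R) =
      (↑hu.unit⁻¹ : R) • ⟨algebraMap A R a, hmem a hap⟩ from Subtype.ext (by
        show _ = (↑hu.unit⁻¹ : R) * algebraMap A R a
        rw [← IsLocalization.mk'_spec R a t, mul_comm (IsLocalization.mk' R a t), ← mul_assoc,
          IsUnit.val_inv_mul, one_mul]), map_smul]
    exact Submodule.smul_mem _ (residue R _) (Submodule.subset_span (Set.mem_range_self (⟨a, hap⟩ : p)))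
  let cf : Fin m → CotangentSpace R := fun i => (maximalIdeal R).toCotangent ⟨algebraMap A R (f i), hfm i⟩
  have hcf : LinearIndependent κ cf := hli
  obtain ⟨b, hbsub, hb1, hb2, hbli⟩ := exists_linearIndepOn_id_extension hcf.linearIndepOn_id
    (show Set.range cf ⊆ Set.range cl by
      rintro _ ⟨i, rfl⟩; exact ⟨⟨f i, hf i⟩, rfl⟩)
  haveI : Finite b := LinearIndependent.finite hbli
  choose g hg using fun z : b => hbsub z.2
  let fi : Fin m → b := fun i => ⟨_, hb1 ⟨i, rfl⟩⟩
  have hfi : Function.Injective fi := fun i j h => hli.injective (Subtype.ext_iff.mp h)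
  let G : b → A := fun z => if h : ∃ i, fi i = z then f h.choose else (g z).1
  have hGp : ∀ z, G z ∈ p := fun z => by
    simp only [G]; split
    · exact hf _
    · exact (g z).2
  have hGcl : ∀ z, cl ⟨G z, hGp z⟩ = z.1 := fun z => by
    by_cases h : ∃ i, fi i = z
    · have hz : G z = f h.choose := dif_pos h
      simp only [cl, hz]
      exact Subtype.ext_iff.mp h.choose_spec
    · have hz : G z = (g z).1 := dif_neg h
      simp only [cl, hz]
      exact hg z
  have hGf : ∀ i, G (fi i) = f i := fun i => by
    have h : ∃ j, fi j = fi i := ⟨i, rfl⟩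
    rw [show G (fi i) = f h.choose from dif_pos h, hfi h.choose_spec]
  haveI := Fintype.ofFinite b
  let v : b → Fin r → L := fun z => grad p L (G z)
  -- every gradient lies in the span
  have hle : Submodule.span L (grad p L '' (p : Set A)) ≤ Submodule.span L (Set.range v) := by
    refine Submodule.span_le.mpr ?_
    rintro _ ⟨a, ha, rfl⟩
    have hc : cl ⟨a, ha⟩ ∈ Submodule.span κ (Set.range fun z => cl ⟨G z, hGp z⟩) := by
      rw [show (Set.range fun z => cl ⟨G z, hGp z⟩) = b by
        ext y
        exact ⟨fun ⟨z, hz⟩ => by rw [← hz]; show cl _ ∈ b; rw [hGcl z]; exact z.2, fun hy => ⟨⟨y, hy⟩, hGcl ⟨y, hy⟩⟩⟩]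
      exact Submodule.span_le.mpr hb2 (hspan.symm ▸ Submodule.mem_top : cl ⟨a, ha⟩ ∈ Submodule.span κ (Set.range cl))
    obtain ⟨c, hc⟩ := (Submodule.mem_span_range_iff_exists_fun κ).mp hc
    choose y hy using fun z => residue_surjective (c z)
    obtain ⟨t, ht⟩ := IsLocalization.exist_integer_multiples p.primeCompl (Finset.univ : Finset b) y
    choose y' hy' using fun z : b => ht z (Finset.mem_univ z)
    have hdiff : algebraMap A R (t.1 * a - ∑ z, y' z * G z) ∈ maximalIdeal R ^ 2 := by
      have h0 : ((maximalIdeal R).toCotangent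
          (algebraMap A R t.1 • ⟨algebraMap A R a, hmem a ha⟩ -
            ∑ z, algebraMap A R (y' z) • ⟨algebraMap A R (G z), hmem _ (hGp z)⟩)) = 0 := by
        rw [map_sub, map_sum, sub_eq_zero, map_smul]
        show residue R (algebraMap A R t.1) • cl ⟨a, ha⟩ = _
        rw [← hc, Finset.smul_sum]
        refine Finset.sum_congr rfl fun z _ => ?_
        rw [map_smul]
        show _ = residue R (algebraMap A R (y' z)) • cl ⟨G z, hGp z⟩
        rw [smul_smul, ← hy z, ← map_mul, hy', Algebra.smul_def]
      have h1 := (Ideal.toCotangent_eq_zero _ _).mp h0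
      simpa [map_sub, map_sum, map_mul, Algebra.smul_def] using h1
    have hsq : maximalIdeal R ^ 2 = (p ^ 2).map (algebraMap A R) := by
      rw [Ideal.map_pow, Localization.AtPrime.map_eq_maximalIdeal]
    rw [hsq, IsLocalization.algebraMap_mem_map_algebraMap_iff p.primeCompl R] at hdiff
    obtain ⟨u, hu, huz⟩ := hdiff
    have hgrad : grad p L (u * (t.1 * a - ∑ z, y' z * G z)) = 0 := by
      rw [pow_two] at huz
      refine Submodule.mul_induction_on huz (fun x hx y hy => grad_mul_mem p L hx hy) fun x y hx hy => ?_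
      rw [grad_add, hx, hy, add_zero]
    let q : A → L := fun x => algebraMap (A ⧸ p) L (Ideal.Quotient.mk p x)
    have hq0 : ∀ x, q x = 0 ↔ x ∈ p := fun x => by
      show algebraMap (A ⧸ p) L (Ideal.Quotient.mk p x) = 0 ↔ _
      rw [map_eq_zero_iff _ (IsFractionRing.injective (A ⧸ p) L), Ideal.Quotient.eq_zero_iff_mem]
    let gh : A →+ (Fin r → L) := AddMonoidHom.mk' (grad p L) (grad_add p L)
    have hzp : t.1 * a - ∑ z, y' z * G z ∈ p :=
      sub_mem (Ideal.mul_mem_left _ _ ha) (sum_mem fun z _ => Ideal.mul_mem_left _ _ (hGp z))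
    have hlin : ∀ x ∈ p, ∀ c, grad p L (c * x) = q c • grad p L x := fun x hx c => by
      rw [grad_mul, Ideal.Quotient.eq_zero_iff_mem.mpr hx, map_zero, zero_smul, add_zero]
    rw [hlin _ hzp, smul_eq_zero, hq0] at hgrad
    have h2 : gh (t.1 * a - ∑ z, y' z * G z) = 0 := hgrad.resolve_left hu
    rw [map_sub, map_sum, sub_eq_zero] at h2
    have h3 : q t.1 • grad p L a ∈ Submodule.span L (Set.range v) := by
      rw [← hlin a ha, show grad p L (t.1 * a) = gh (t.1 * a) from rfl, h2]
      refine sum_mem fun z _ => ?_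
      show grad p L (y' z * G z) ∈ _
      rw [hlin _ (hGp z)]
      exact Submodule.smul_mem _ _ (Submodule.subset_span ⟨z, rfl⟩)
    exact (Submodule.smul_mem_iff _ (fun h => t.2 ((hq0 _).mp h))).mp h3
  have hcard : Fintype.card b + s ≤ r := by
    obtain ⟨e, he⟩ := SerreReg.exists_dim_nat R
    have hrk : Module.finrank κ (CotangentSpace R) = e := by
      have h := (IsRegularLocalRing.iff_finrank_cotangentSpace R).mp inferInstance
      rw [he] at h
      exact_mod_cast h
    have hb3 : Fintype.card b ≤ e := hrk ▸ LinearIndependent.fintype_card_le_finrank hbli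
    have h := dim_localization_add_le p s hinj
    rw [show ringKrullDim (Localization.AtPrime p) = (e : WithBot ℕ∞) from he] at h
    have : e + s ≤ r := by exact_mod_cast h
    omega
  have hvli : LinearIndependent L v := by
    rw [linearIndependent_iff_card_eq_finrank_span]
    refine le_antisymm ?_ (finrank_range_le_card v)
    have h1 := finrank_span_grad_ge p s L' L
    have h2 := Submodule.finrank_mono hle
    show _ ≤ Module.finrank L (Submodule.span L (Set.range v))
    omega
  convert hvli.comp fi hfi using 1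
  funext i
  exact congrArg (grad p L) (hGf i).symm

end Groth.Agent.EGA41Nagata
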